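import Mathlib
import Groth.Agent.CILib.Basic
import Groth.Agent.Synt29.CIKernel

/-!
# The geometric depth of a Noetherian local ring

For a presentation of a local ring as a quotient of a regular local ring, the difference
"dimension of the regular ring minus the number of generators of the ideal" does not depend on the
presentation.
-/

set_option autoImplicit false
set_option linter.style.haveILetI false

universe u

namespace Groth.Agent.GDepth6

open IsLocalRing Groth.Agent.Synt29

variable {R : Type u} [CommRing R]

/-- A minimal generating family of a finitely generated ideal. -/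
theorem exists_min_gens {I : Ideal R} (hI : I.FG) :
    ∃ k : Fin I.spanFinrank → R, Ideal.span (Set.range k) = I := by
  obtain ⟨s, hs, hspan⟩ := Submodule.FG.exists_span_finset_card_eq_spanFinrank hI
  let e := (Fintype.equivFinOfCardEq (α := s) (by rw [Fintype.card_coe, hs]))
  refine ⟨fun i => (e.symm i).1, ?_⟩
  rw [show (Set.range fun i => (e.symm i).1) = (s : Set R) from ?_]
  · exact hspan
  · ext x
    exact ⟨fun ⟨i, hi⟩ => hi ▸ (e.symm i).2, fun hx => ⟨e ⟨x, hx⟩, by simp⟩⟩

theorem spanFinrank_span_range_le {r : ℕ} (k : Fin r → R) :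
    (Ideal.span (Set.range k)).spanFinrank ≤ r := by
  refine (Submodule.spanFinrank_span_le_ncard_of_finite (Set.finite_range k)).trans ?_
  rw [← Set.image_univ]
  exact (Set.ncard_image_le Set.finite_univ).trans (by simp)

theorem spanFinrank_comp_aux {S : Type u} [CommRing S] [IsLocalRing S] [IsRegularLocalRing R]
    (τ : R →+* S) :
    ∀ (n : ℕ) (P : Type u) [CommRing P] [IsRegularLocalRing P] (π : P →+* R), Function.Surjective π →
      (maximalIdeal P).spanFinrank ≤ n →
      (RingHom.ker (τ.comp π)).spanFinrank + (maximalIdeal R).spanFinrank =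
        (RingHom.ker τ).spanFinrank + (maximalIdeal P).spanFinrank := by
  have hiso : ∀ (P : Type u) [CommRing P] [IsRegularLocalRing P] (π : P →+* R), Function.Bijective π →
      (RingHom.ker (τ.comp π)).spanFinrank + (maximalIdeal R).spanFinrank =
        (RingHom.ker τ).spanFinrank + (maximalIdeal P).spanFinrank := by
    intro P _ _ π hπ
    let e := RingEquiv.ofBijective π hπ
    haveI : IsLocalHom π := IsLocalHom.of_surjective π hπ.2
    have h1 : (RingHom.ker (τ.comp π)).map π = RingHom.ker τ := by
      rw [← RingHom.comap_ker, Ideal.map_comap_of_surjective π hπ.2]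
    rw [← h1, ← map_maximalIdeal_of_surjective π hπ.2]
    exact congrArg₂ (· + ·) (Ideal.spanFinrank_map_eq_of_ringEquiv e _).symm
      (Ideal.spanFinrank_map_eq_of_ringEquiv e _)
  intro n
  induction n with
  | zero =>
    intro P _ _ π hπ hn
    have hf := RegLoc6.isField_of_spanFinrank_eq_zero (Nat.le_zero.1 hn)
    letI := hf.toField
    exact hiso P π ⟨π.injective, hπ⟩
  | succ n ih =>
    intro P _ _ π hπ hn
    by_cases hker : RingHom.ker π = ⊥
    · exact hiso P π ⟨(RingHom.injective_iff_ker_eq_bot π).2 hker, hπ⟩
    obtain ⟨t, htk, ht2⟩ := exists_mem_ker_notMem_sq π hπ hker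
    have htm : t ∈ maximalIdeal P := ker_le_maximalIdeal π htk
    obtain ⟨hreg, hdim⟩ := RegLoc6.isRegularLocalRing_quot_and htm ht2
    haveI := hreg
    have hdim' : (maximalIdeal (P ⧸ Ideal.span {t})).spanFinrank + 1 = (maximalIdeal P).spanFinrank := by
      rw [ringKrullDim_eq_nat, ringKrullDim_eq_nat] at hdim
      exact_mod_cast hdim
    let q : P →+* P ⧸ Ideal.span {t} := Ideal.Quotient.mk _
    let π1 : P ⧸ Ideal.span {t} →+* R := Ideal.Quotient.lift _ π fun a ha =>
      (Ideal.span_singleton_le_iff_mem _).2 htk ha
    have hπ1 : Function.Surjective π1 := Ideal.Quotient.lift_surjective_of_surjective _ _ hπ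
    have key : (RingHom.ker (τ.comp π)).spanFinrank = (RingHom.ker (τ.comp π1)).spanFinrank + 1 := by
      have hkerq : RingHom.ker (τ.comp π) = (RingHom.ker (τ.comp π1)).comap q := by
        rw [RingHom.comap_ker]; rfl
      refine le_antisymm ?_ ?_
      · obtain ⟨k, hk⟩ := exists_min_gens (IsNoetherian.noetherian (RingHom.ker (τ.comp π1)))
        choose k' hk' using fun i => Ideal.Quotient.mk_surjective (k i)
        have h1 : RingHom.ker (τ.comp π) = Ideal.span (Set.range (Fin.cons t k' : Fin _ → P)) := by
          have h2 : Set.range k = q '' Set.range k' := by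
            rw [← Set.range_comp]; exact congrArg Set.range (funext fun i => (hk' i).symm)
          rw [hkerq]
          conv_lhs => rw [← hk, h2]
          rw [← Ideal.map_span, Ideal.comap_map_of_surjective q Ideal.Quotient.mk_surjective,
            ← RingHom.ker_eq_comap_bot, Ideal.mk_ker, Fin.range_cons, Ideal.span_insert, sup_comm]
        exact h1 ▸ spanFinrank_span_range_le _
      · obtain ⟨k, hk⟩ := exists_min_gens (IsNoetherian.noetherian (RingHom.ker (τ.comp π)))
        have hts : t ∈ RingHom.ker (τ.comp π) := by
          rw [RingHom.mem_ker]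
          show τ (π t) = 0
          rw [show π t = 0 from htk, map_zero]
        obtain ⟨r', k', hr', hk'⟩ := exists_exchange k (hk.symm ▸ hts) (fun hmem => ht2 (by
          rw [pow_two]
          refine Ideal.mul_mono_right ?_ hmem
          rw [hk]
          exact ker_le_maximalIdeal _))
        have h1 : RingHom.ker (τ.comp π1) = Ideal.span (Set.range (q ∘ k')) := by
          rw [← Ideal.map_comap_of_surjective q Ideal.Quotient.mk_surjective (RingHom.ker (τ.comp π1)),
            ← hkerq, ← hk, hk', Ideal.map_sup, Ideal.map_quotient_self, bot_sup_eq, Ideal.map_span,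
            Set.range_comp]
        have h2 := spanFinrank_span_range_le (q ∘ k')
        rw [← h1] at h2
        omega
    have := ih _ π1 hπ1 (by omega)
    omega

/-- For `P ↠ R ↠ S` with `P`, `R` regular: `μ(ker) - dim` is the same for both presentations of `S`. -/
theorem spanFinrank_comp {S : Type u} [CommRing S] [IsLocalRing S] [IsRegularLocalRing R]
    {P : Type u} [CommRing P] [IsRegularLocalRing P] (π : P →+* R) (hπ : Function.Surjective π)
    (τ : R →+* S) :
    (RingHom.ker (τ.comp π)).spanFinrank + (maximalIdeal R).spanFinrank =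
      (RingHom.ker τ).spanFinrank + (maximalIdeal P).spanFinrank :=
  spanFinrank_comp_aux τ _ P π hπ le_rfl

/-- The minimal number of generators is unchanged by completion. -/
theorem spanFinrank_map_completion [IsLocalRing R] [IsNoetherianRing R] (I : Ideal R) :
    (I.map (algebraMap R (AdicCompletion (maximalIdeal R) R))).spanFinrank = I.spanFinrank := by
  haveI := LC.Canon.isNoetherianRing_completion (R := R)
  refine le_antisymm (Ideal.spanFinrank_map_le_of_fg _ (IsNoetherian.noetherian _)) ?_
  obtain ⟨k, hk⟩ := exists_min_gens
    (IsNoetherian.noetherian (I.map (algebraMap R (AdicCompletion (maximalIdeal R) R))))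
  obtain ⟨k', hk'⟩ := CILib.exists_generators_of_completion I k hk.symm
  conv_lhs => rw [hk']
  exact spanFinrank_span_range_le k'

/-- `dim B - μ(I)` does not depend on the presentation `A = B / I`. -/
theorem geomDepth_indep {A : Type u} [CommRing A] [IsLocalRing A] [IsNoetherianRing A]
    {B B' : Type u} [CommRing B] [CommRing B'] [IsRegularLocalRing B] [IsRegularLocalRing B']
    (f : B →+* A) (hf : Function.Surjective f) (f' : B' →+* A) (hf' : Function.Surjective f') :
    (maximalIdeal B).spanFinrank + (RingHom.ker f').spanFinrank =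
      (maximalIdeal B').spanFinrank + (RingHom.ker f).spanFinrank := by
  obtain ⟨τ, hτ, hker⟩ := CILib.exists_completion_surjection f hf
  obtain ⟨τ', hτ', hker'⟩ := CILib.exists_completion_surjection f' hf'
  haveI := LC.Canon.isNoetherianRing_completion (R := A)
  haveI := CILib.isRegularLocalRing_adicCompletion B
  haveI := CILib.isAdicComplete_adicCompletion B
  haveI := CILib.isRegularLocalRing_adicCompletion B'
  haveI := CILib.isAdicComplete_adicCompletion B'
  have hμ : ∀ (T : Type u) [CommRing T] [IsRegularLocalRing T],
      (maximalIdeal (AdicCompletion (maximalIdeal T) T)).spanFinrank = (maximalIdeal T).spanFinrank := by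
    intro T _ _
    haveI := CILib.isRegularLocalRing_adicCompletion T
    have h := CILib.ringKrullDim_adicCompletion T
    rw [ringKrullDim_eq_nat, ringKrullDim_eq_nat] at h
    exact_mod_cast h
  obtain ⟨P, _, _, _, hfg, p₁, p₂, hp₁, hp₂, hcomp⟩ := CILib.exists_pullback τ hτ τ' hτ'
  obtain ⟨Λ, _, n, g, hΛ, hg⟩ := CohenLib.exists_surjective P hfg
  obtain ⟨_, hreg, -⟩ := CohenLib.isRegular_complete_mvPowerSeries hΛ n
  haveI := hreg
  have h1 := spanFinrank_comp (p₁.comp g) (hp₁.comp hg) τ
  have h2 := spanFinrank_comp (p₂.comp g) (hp₂.comp hg) τ'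
  rw [← RingHom.comp_assoc, ← hcomp, RingHom.comp_assoc, hker', spanFinrank_map_completion, hμ B'] at h2
  rw [hker, spanFinrank_map_completion, hμ B] at h1
  omega

end Groth.Agent.GDepth6
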