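import Mathlib
import Groth.Agent.GDepth6.Basic
import Groth.Agent.RegFS6.FlatLiftMod
import Groth.Agent.RegFS6.GBase
import Groth.Agent.Hensel.HenselizationLoc

/-!
# Geometric depth under flat extensions with separable residue extension
-/

set_option autoImplicit false
set_option linter.style.haveILetI false

universe u

namespace Groth.Agent.GDepth6

open IsLocalRing TensorProduct

/-- The minimal number of generators of an ideal is unchanged by a flat local homomorphism. -/
theorem spanFinrank_map_of_flat {R S : Type u} [CommRing R] [CommRing S] [IsLocalRing R] [IsLocalRing S]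
    [IsNoetherianRing R] [Algebra R S] [IsLocalHom (algebraMap R S)] [Module.Flat R S] (I : Ideal R) :
    (I.map (algebraMap R S)).spanFinrank = I.spanFinrank := by
  have hI : I.FG := IsNoetherian.noetherian I
  let φ : S ⊗[R] I →ₗ[S] S := LinearMap.liftBaseChange S ((Algebra.linearMap R S).comp I.subtype)
  have hφi : Function.Injective φ := by
    have h : (φ.restrictScalars R : S ⊗[R] I →ₗ[R] S) =
        (TensorProduct.rid R S).toLinearMap.comp (I.subtype.lTensor S) := by
      refine TensorProduct.ext' fun s i => ?_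
      simp [φ, Algebra.smul_def, mul_comm]
    intro x y hxy
    have h1 : (φ.restrictScalars R) x = (φ.restrictScalars R) y := hxy
    rw [h] at h1
    exact Module.Flat.lTensor_preserves_injective_linearMap _ I.subtype_injective
      ((TensorProduct.rid R S).injective h1)
  have hφr : LinearMap.range φ = I.map (algebraMap R S) := by
    rw [LinearMap.range_liftBaseChange, Ideal.map, Ideal.span]
    congr 1
    ext x
    simp
  let e : S ⊗[R] I ≃ₗ[S] (I.map (algebraMap R S) : Ideal S) :=
    (LinearEquiv.ofInjective φ hφi).trans (LinearEquiv.ofEq _ _ hφr)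
  rw [← TensorProduct.spanFinrank_top_eq_of_residueField I hI, ← Module.finrank_eq_spanFinrank_of_free,
    ← TensorProduct.spanFinrank_top_eq_of_residueField (I.map (algebraMap R S)) (hI.map _),
    ← Module.finrank_eq_spanFinrank_of_free]
  let E : (ResidueField S) ⊗[S] (I.map (algebraMap R S) : Ideal S) ≃ₗ[ResidueField S]
      (ResidueField S) ⊗[ResidueField R] ((ResidueField R) ⊗[R] I) :=
    (((TensorProduct.AlgebraTensorModule.congr (LinearEquiv.refl (ResidueField S) (ResidueField S)) e.symm).trans
      (TensorProduct.AlgebraTensorModule.cancelBaseChange R S (ResidueField S) (ResidueField S) I)).trans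
      (TensorProduct.AlgebraTensorModule.cancelBaseChange R (ResidueField R) (ResidueField S) (ResidueField S) I).symm)
  exact E.finrank_eq.trans Module.finrank_baseChange

/-- Flat with unramified closed fibre and formally smooth residue extension: formally smooth. -/
theorem fs_of_map_max_of_fs {A B : Type u} [CommRing A] [CommRing B] [IsLocalRing A] [IsLocalRing B]
    [Algebra A B] [IsLocalHom (algebraMap A B)] [IsNoetherianRing B] [Module.Flat A B]
    (hm : (maximalIdeal A).map (algebraMap A B) = maximalIdeal B)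
    [Algebra.FormallySmooth (ResidueField A) (ResidueField B)] :
    CAlgX.IsAdicFormallySmooth A B (maximalIdeal B) := by
  haveI : IsRegularLocalRing (B ⧸ (maximalIdeal A).map (algebraMap A B)) := by
    rw [hm]
    letI := Ideal.Quotient.field (maximalIdeal B)
    infer_instance
  refine RegFS6.fs_of_flat fun E _ _ hE J hJ ψ hψ => ?_
  let f : ResidueField A →+* E := Ideal.Quotient.lift _ (algebraMap A E) hE
  letI : Algebra (ResidueField A) E := f.toAlgebra
  haveI : IsScalarTower A (ResidueField A) E := IsScalarTower.of_algebraMap_eq fun _ => rfl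
  let ψ₀ : ResidueField B →+* E ⧸ J := Ideal.Quotient.lift _ ψ.toRingHom hψ
  have hc : ∀ z, ψ₀ (algebraMap (ResidueField A) (ResidueField B) z) = algebraMap (ResidueField A) (E ⧸ J) z := fun z => by
    obtain ⟨a, rfl⟩ := residue_surjective z
    show ψ (algebraMap A B a) = _
    rw [AlgHom.commutes]
    exact (IsScalarTower.algebraMap_apply A (ResidueField A) (E ⧸ J) a)
  obtain ⟨χ, hχ⟩ := Algebra.FormallySmooth.exists_lift (R := ResidueField A) J ⟨2, by rw [hJ, Ideal.zero_eq_bot]⟩
    ({ ψ₀ with commutes' := hc } : ResidueField B →ₐ[ResidueField A] E ⧸ J)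
  have hc2 : ∀ a, χ (residue B (algebraMap A B a)) = algebraMap A E a := fun a => by
    rw [← ResidueField.algebraMap_eq, ← IsScalarTower.algebraMap_apply A B (ResidueField B),
      IsScalarTower.algebraMap_apply A (ResidueField A) (ResidueField B), AlgHom.commutes,
      ← IsScalarTower.algebraMap_apply]
  exact ⟨{ χ.toRingHom.comp (residue B) with commutes' := hc2 }, AlgHom.ext fun b => AlgHom.congr_fun hχ (residue B b)⟩

/-- Adic formal smoothness is insensitive to an isomorphism of the base. -/
theorem fs_of_base_equiv {R R' S : Type u} [CommRing R] [CommRing R'] [CommRing S] [Algebra R S] [Algebra R' S]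
    (e : R' ≃+* R) (h : ∀ x, algebraMap R' S x = algebraMap R S (e x)) {J : Ideal S}
    (hfs : CAlgX.IsAdicFormallySmooth R S J) : CAlgX.IsAdicFormallySmooth R' S J := by
  intro E _ _ K hK ψ hψ
  letI : Algebra R E := ((algebraMap R' E).comp e.symm.toRingHom).toAlgebra
  have hE : ∀ y, algebraMap R E y = algebraMap R' E (e.symm y) := fun y => rfl
  have hc : ∀ y, ψ (algebraMap R S y) = Ideal.Quotient.mk K (algebraMap R E y) := by
    intro y
    rw [hE]
    conv_lhs => rw [← e.apply_symm_apply y, ← h, AlgHom.commutes]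
    rfl
  let ψ' : S →ₐ[R] E ⧸ K := { ψ.toRingHom with commutes' := hc }
  obtain ⟨w, hw⟩ := hfs E K hK ψ' hψ
  have hc' : ∀ x, w (algebraMap R' S x) = algebraMap R' E x := by
    intro x
    rw [h, AlgHom.commutes, hE, e.symm_apply_apply]
  exact ⟨{ w.toRingHom with commutes' := hc' }, AlgHom.ext fun s => AlgHom.congr_fun hw s⟩

/-- The core: regular presentations of the completions can be chosen compatibly. -/
theorem exists_compatible {A A' : Type u} [CommRing A] [IsLocalRing A] [IsNoetherianRing A]
    [CommRing A'] [IsLocalRing A'] [IsNoetherianRing A'] [Algebra A A'] [IsLocalHom (algebraMap A A')]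
    [Module.Flat A A'] (hmax : (maximalIdeal A).map (algebraMap A A') = maximalIdeal A')
    [Algebra.FormallySmooth (ResidueField A) (ResidueField A')] :
    ∃ (C C' : Type u) (_ : CommRing C) (_ : CommRing C') (_ : IsRegularLocalRing C) (_ : IsRegularLocalRing C')
      (g : C →+* AdicCompletion (maximalIdeal A) A) (g' : C' →+* AdicCompletion (maximalIdeal A') A'),
      Function.Surjective g ∧ Function.Surjective g' ∧
      (RingHom.ker g).spanFinrank = (RingHom.ker g').spanFinrank ∧
      (maximalIdeal C).spanFinrank = (maximalIdeal C').spanFinrank := by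
  haveI := FlatLoc6.isLocalRing_cpl A
  haveI := FlatLoc6.isLocalRing_cpl A'
  haveI := FlatLoc6.isNoetherianRing_cpl A
  haveI := FlatLoc6.isNoetherianRing_cpl A'
  haveI := CplFib6.isAdicComplete_cpl A
  haveI := CplFib6.isAdicComplete_cpl A'
  obtain ⟨_, hst, hff⟩ := FlatLoc6.exists_cplHom A A'
  haveI := hst
  have hmh : (maximalIdeal (EGA4.Cpl A)).map (algebraMap (EGA4.Cpl A) (EGA4.Cpl A')) = maximalIdeal (EGA4.Cpl A') := by
    rw [AdicCompletion.maximalIdeal_eq_map_of_fg (IsNoetherian.noetherian _), Ideal.map_map,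
      ← IsScalarTower.algebraMap_eq, IsScalarTower.algebraMap_eq A A' (EGA4.Cpl A'), ← Ideal.map_map, hmax,
      AdicCompletion.maximalIdeal_eq_map_of_fg (IsNoetherian.noetherian _)]
  haveI : IsLocalHom (algebraMap (EGA4.Cpl A) (EGA4.Cpl A')) := ((local_hom_TFAE _).out 0 2).mpr hmh.le
  have hfs := RegFS6.fs_cpl (fs_of_map_max_of_fs hmax)
  obtain ⟨Λ, _, n, g, hΛ, hg⟩ := CohenLib.exists_surjective (EGA4.Cpl A) (IsNoetherian.noetherian _)
  obtain ⟨_, hreg, -⟩ := CohenLib.isRegular_complete_mvPowerSeries hΛ n
  haveI := hreg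
  let C := MvPowerSeries (Fin n) Λ
  let J : Ideal C := RingHom.ker g
  have hJ : J ≤ maximalIdeal C := Synt29.ker_le_maximalIdeal g
  let q : C ⧸ J ≃+* EGA4.Cpl A := RingHom.quotientKerEquivOfSurjective hg
  haveI : IsLocalRing (C ⧸ J) := q.symm.isLocalRing
  letI : Algebra (C ⧸ J) (EGA4.Cpl A') := ((algebraMap (EGA4.Cpl A) (EGA4.Cpl A')).comp q.toRingHom).toAlgebra
  letI : Algebra C (EGA4.Cpl A') := ((algebraMap (EGA4.Cpl A) (EGA4.Cpl A')).comp g).toAlgebra
  haveI : IsScalarTower C (C ⧸ J) (EGA4.Cpl A') :=
    IsScalarTower.of_algebraMap_eq (R := C) (S := C ⧸ J) (A := EGA4.Cpl A') fun _ => rfl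
  haveI : IsLocalHom (algebraMap (C ⧸ J) (EGA4.Cpl A')) :=
    ⟨fun z hz => (MulEquiv.isUnit_map q).mp ((isUnit_map_iff (algebraMap (EGA4.Cpl A) (EGA4.Cpl A')) _).mp hz)⟩
  obtain ⟨B, _, _, _, _, _, hBc, hBflat, ⟨e⟩⟩ :=
    RegFS6.exists_flat_lift J hJ (fs_of_base_equiv q (fun _ => rfl) hfs)
  haveI := hBflat
  obtain ⟨φ, hφ⟩ := RegFS6.exists_quot_tensor_equiv C J B
  let g' : B →+* EGA4.Cpl A' := e.toRingHom.comp (φ.symm.toRingHom.comp (Ideal.Quotient.mk _))
  have hg' : Function.Surjective g' :=
    e.surjective.comp (φ.symm.surjective.comp Ideal.Quotient.mk_surjective)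
  have hk' : RingHom.ker g' = J.map (algebraMap C B) := by
    ext x
    rw [RingHom.mem_ker]
    show e (φ.symm (Ideal.Quotient.mk _ x)) = 0 ↔ _
    rw [map_eq_zero_iff e e.injective, map_eq_zero_iff φ.symm φ.symm.injective, Ideal.Quotient.eq_zero_iff_mem]
  have hg'C : ∀ c, g' (algebraMap C B c) = algebraMap (EGA4.Cpl A) (EGA4.Cpl A') (g c) := fun c => by
    show e (φ.symm (algebraMap (C ⧸ J) (B ⧸ J.map (algebraMap C B)) (Ideal.Quotient.mk J c))) = _
    rw [AlgEquiv.commutes, AlgEquiv.commutes]
    rfl
  haveI : IsLocalHom g' := IsLocalHom.of_surjective g' hg'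
  have hmB : (maximalIdeal C).map (algebraMap C B) = maximalIdeal B := by
    have h1 : ((maximalIdeal C).map (algebraMap C B)).map g' = maximalIdeal (EGA4.Cpl A') := by
      rw [Ideal.map_map, show g'.comp (algebraMap C B) = (algebraMap (EGA4.Cpl A) (EGA4.Cpl A')).comp g from
        RingHom.ext hg'C, ← Ideal.map_map, map_maximalIdeal_of_surjective g hg, hmh]
    have h2 := congrArg (fun I => Ideal.comap g' I) h1
    try dsimp only at h2
    rw [Ideal.comap_map_of_surjective g' hg', ← RingHom.ker_eq_comap_bot, hk',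
      sup_eq_left.mpr (Ideal.map_mono hJ)] at h2
    rw [h2]
    exact (((local_hom_TFAE g').out 0 4).mp (inferInstance : IsLocalHom g'))
  have hdim : (maximalIdeal B).spanFinrank = (maximalIdeal C).spanFinrank :=
    Hensel.spanFinrank_maximalIdeal_eq_of_flat hmB
  haveI : IsRegularLocalRing B := (Hensel.isRegularLocalRing_iff_of_flat hmB).mp inferInstance
  refine ⟨C, B, inferInstance, inferInstance, inferInstance, inferInstance, g, g', hg, hg', ?_, hdim.symm⟩
  rw [hk', spanFinrank_map_of_flat]

end Groth.Agent.GDepth6
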